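import Groth.Agent.S2453
import Groth.Agent.S0547
import Groth.Agent.CurveCohLib.SubBundle
import Mathlib.RingTheory.MvPowerSeries.Rename
import Mathlib.RingTheory.PowerSeries.Basic

/-!
# Power series charts at rational points of smooth curves
-/

set_option linter.style.haveILetI false
universe u

open IsLocalRing

namespace Groth.Agent.H9PowChart

variable {k A : Type u} [Field k] [CommRing A] [IsLocalRing A] [Algebra k A]

theorem residue_bijective (π : A →+* k) (hπ : ∀ a, π (algebraMap k A a) = a) :
    Function.Bijective (algebraMap k (ResidueField A)) := by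
  have hsurj : Function.Surjective π := fun a => ⟨algebraMap k A a, hπ a⟩
  have hker : RingHom.ker π = maximalIdeal A :=
    IsLocalRing.eq_maximalIdeal (RingHom.ker_isMaximal_of_surjective π hsurj)
  refine ⟨(algebraMap k (ResidueField A)).injective, fun z => ?_⟩
  obtain ⟨a, rfl⟩ := IsLocalRing.residue_surjective z
  refine ⟨π a, ?_⟩
  show IsLocalRing.residue A (algebraMap k A (π a)) = _
  refine (Ideal.Quotient.eq).2 ?_
  rw [← hker, RingHom.mem_ker, map_sub, hπ, sub_self]

/-- Two retractions of a local `k`-algebra onto `k` are equal. -/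
theorem retraction_unique (π π' : A →+* k) (hπ : ∀ a, π (algebraMap k A a) = a)
    (hπ' : ∀ a, π' (algebraMap k A a) = a) : π = π' := by
  have hker : ∀ f : A →+* k, (∀ a, f (algebraMap k A a) = a) → RingHom.ker f = maximalIdeal A :=
    fun f hf => IsLocalRing.eq_maximalIdeal
      (RingHom.ker_isMaximal_of_surjective f fun a => ⟨algebraMap k A a, hf a⟩)
  ext a
  have h : a - algebraMap k A (π a) ∈ RingHom.ker π' := by
    rw [hker π' hπ', ← hker π hπ, RingHom.mem_ker, map_sub, hπ, sub_self]
  rw [RingHom.mem_ker, map_sub, hπ', sub_eq_zero] at h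
  exact h.symm

variable [IsRegularLocalRing A]

/-- A regular local `k`-algebra of dimension one with residue field `k` embeds into `k[[t]]`,
compatibly with the two augmentations. -/
theorem exists_injective_powerSeries [Algebra.IsGeometricallyReduced k (ResidueField A)]
    (hdim : ringKrullDim A = 1) (π : A →+* k) (hπ : ∀ a, π (algebraMap k A a) = a) :
    ∃ φ : A →+* PowerSeries k, Function.Injective φ ∧
      (∀ a, φ (algebraMap k A a) = PowerSeries.C a) ∧ (PowerSeries.constantCoeff (R := k)).comp φ = π := by
  have h4 : IsRegularLocalRing A := inferInstance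
  obtain ⟨n, e, he⟩ := ((S2453.result (k := k) (A := A)).out 1 3).2 h4
  have hn : n = 1 := by
    have h1 : ringKrullDim (AdicCompletion (maximalIdeal A) A) = ringKrullDim A := S0547.result A
    rw [ringKrullDim_eq_of_ringEquiv e, PSLib.ringKrullDim_eq, hdim] at h1
    exact_mod_cast h1
  subst hn
  let e0 : k ≃+* ResidueField A := RingEquiv.ofBijective _ (residue_bijective π hπ)
  let u : Fin 1 ≃ Unit := finOneEquiv
  let ρ : MvPowerSeries (Fin 1) (ResidueField A) →+* PowerSeries k :=
    (MvPowerSeries.renameEquiv k u).toAlgHom.toRingHom.comp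
      (MvPowerSeries.map (σ := Fin 1) e0.symm.toRingHom)
  have hρinj : Function.Injective ρ := by
    intro f g h
    have h' := (MvPowerSeries.renameEquiv k u).injective h
    ext d
    have := congrArg (MvPowerSeries.coeff d) h'
    simpa using this
  let φ : A →+* PowerSeries k :=
    (ρ.comp e.toRingHom).comp (algebraMap A (AdicCompletion (maximalIdeal A) A))
  have hC : ∀ a, φ (algebraMap k A a) = PowerSeries.C a := by
    intro a
    show ρ (e (algebraMap A _ (algebraMap k A a))) = _
    rw [he, MvPowerSeries.algebraMap_apply, Algebra.algebraMap_self, RingHom.id_apply]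
    show MvPowerSeries.rename u (MvPowerSeries.map e0.symm.toRingHom (MvPowerSeries.C (e0 a))) = _
    rw [MvPowerSeries.map_C, RingEquiv.toRingHom_eq_coe, RingHom.coe_coe, RingEquiv.symm_apply_apply,
      MvPowerSeries.rename_C]
    rfl
  refine ⟨φ, ?_, hC, retraction_unique _ _ (fun a => ?_) hπ⟩
  · show Function.Injective (ρ ∘ e ∘ algebraMap A (AdicCompletion (maximalIdeal A) A))
    exact hρinj.comp (e.injective.comp (AdicCompletion.of_injective (maximalIdeal A) A))
  · show PowerSeries.constantCoeff (φ (algebraMap k A a)) = a
    rw [hC, PowerSeries.constantCoeff_C]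

end Groth.Agent.H9PowChart
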